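import Groth.Agent.Lib.EtMod.ProdRes.Product
import Mathlib.Algebra.Homology.DerivedCategory.SingleTriangle

/-!
# Products and sequential limits of quasi-coherent modules in the derived category
-/

set_option autoImplicit false
set_option linter.style.haveILetI false
set_option backward.isDefEq.respectTransparency false

universe u w v t

open CategoryTheory CategoryTheory.Limits AlgebraicGeometry Opposite AlgSp Pretriangulated

namespace Groth.Agent.Lib.EtMod.ProdRes

section Generic

variable {A : Type u} [Category.{v} A] [Abelian A] [HasDerivedCategory.{w} A]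

/-- A fan with point isomorphic to that of a limit fan, compatibly, is a limit. -/
theorem nonempty_isLimit_fan_of_iso {D : Type u} [Category.{v} D] {T : Type t} {F G : T → D}
    {P Q : D} {p : ∀ j, P ⟶ F j} {q : ∀ j, Q ⟶ G j} (hl : IsLimit (Fan.mk Q q)) (α : P ≅ Q)
    (β : ∀ j, F j ≅ G j) (h : ∀ j, α.hom ≫ q j = p j ≫ (β j).hom) :
    Nonempty (IsLimit (Fan.mk P p)) := by
  refine ⟨Fan.IsLimit.mk _ (fun s => Fan.IsLimit.lift hl (fun j => s.proj j ≫ (β j).hom) ≫ α.inv)
    (fun s j => ?_) (fun s m hm => ?_)⟩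
  · change (_ ≫ α.inv) ≫ p j = s.proj j
    rw [← cancel_mono (β j).hom, Category.assoc, Category.assoc, ← h j, Iso.inv_hom_id_assoc]
    exact Fan.IsLimit.fac hl _ _
  · rw [← cancel_mono α.hom, Category.assoc, Iso.inv_hom_id, Category.comp_id]
    refine Fan.IsLimit.hom_ext hl _ _ fun j => ?_
    refine Eq.trans ?_ (Fan.IsLimit.fac hl _ _).symm
    change (m ≫ α.hom) ≫ q j = _
    rw [Category.assoc, h j, ← Category.assoc]
    exact congrArg (· ≫ (β j).hom) (hm j)

/-- Single objects in the derived category come from single complexes. -/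
noncomputable def singleIso (M : A) : (DerivedCategory.singleFunctor A 0).obj M ≅
    DerivedCategory.Q.obj ((CochainComplex.singleFunctor A 0).obj M) :=
  ((SingleFunctors.evaluation _ _ 0).mapIso (DerivedCategory.singleFunctorsPostcompQIso A)).app M

theorem singleIso_naturality {M N : A} (f : M ⟶ N) :
    (DerivedCategory.singleFunctor A 0).map f ≫ (singleIso N).hom =
      (singleIso M).hom ≫ DerivedCategory.Q.map ((CochainComplex.singleFunctor A 0).map f) :=
  ((SingleFunctors.evaluation _ _ 0).mapIso
    (DerivedCategory.singleFunctorsPostcompQIso A)).hom.naturality f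

/-- A product preserved by single objects, from a quasi-isomorphism between products of resolutions. -/
theorem nonempty_isLimit_single_fan {T : Type t} [HasLimitsOfShape (Discrete T) A] (M : T → A)
    (I : T → CochainComplex A ℤ) (hI : ∀ j, (I j).IsKInjective)
    (ι : ∀ j, (CochainComplex.singleFunctor A 0).obj (M j) ⟶ I j) (hι : ∀ j, QuasiIso (ι j))
    (φ : (CochainComplex.singleFunctor A 0).obj (∏ᶜ M) ⟶ ∏ᶜ I) (hφ : QuasiIso φ)
    (h : ∀ j, φ ≫ Pi.π I j = (CochainComplex.singleFunctor A 0).map (Pi.π M j) ≫ ι j) :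
    Nonempty (IsLimit (Fan.mk ((DerivedCategory.singleFunctor A 0).obj (∏ᶜ M))
      fun j => (DerivedCategory.singleFunctor A 0).map (Pi.π M j))) := by
  obtain ⟨hl⟩ := nonempty_isLimit_Q_fan I hI
  refine nonempty_isLimit_fan_of_iso hl (singleIso _ ≪≫ asIso (DerivedCategory.Q.map φ))
    (fun j => singleIso (M j) ≪≫ asIso (DerivedCategory.Q.map (ι j))) fun j => ?_
  simp only [Iso.trans_hom, asIso_hom, Category.assoc]
  rw [← DerivedCategory.Q.map_comp, h j, DerivedCategory.Q.map_comp, ← Category.assoc,
    ← singleIso_naturality, Category.assoc]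

end Generic

variable {S : Scheme.{u}} {X : Sp S}

/-- Single objects preserve products of good modules. -/
theorem isIso_single_pi (M : ℕ → ModEt X)
    (hM : ∀ n, H8.QCohVanish.Good (H8.QCohVanish.covers X) ((toAbEt X).obj (M n)))
    [HasDerivedCategory.{w} (ModEt X)]
    [HasProduct fun n => (DerivedCategory.singleFunctor (ModEt X) 0).obj (M n)] :
    IsIso (Pi.lift (f := fun n => (DerivedCategory.singleFunctor (ModEt X) 0).obj (M n))
      fun n => (DerivedCategory.singleFunctor (ModEt X) 0).map (Pi.π M n)) := by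
  obtain ⟨hl⟩ := nonempty_isLimit_single_fan M (res' M)
    (fun n => inferInstance) (fun n => (InjectiveResolution.of (M n)).ι') (fun n => inferInstance)
    (toProdRes M) (quasiIso_toProdRes M hM) (fun n => Pi.lift_π _ _)
  have := (hl.conePointUniqueUpToIso (productIsProduct _)).isIso_hom
  refine cast ?_ this
  congr 1
  refine Pi.hom_ext _ _ fun n => ?_
  rw [Pi.lift_π]
  exact hl.conePointUniqueUpToIso_hom_comp (productIsProduct _) ⟨n⟩

section Seq

variable (M : ℕ → ModEt X) (t : ∀ n, M (n + 1) ⟶ M n)

/-- The inclusion of the limit into the product. -/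
noncomputable abbrev seqIncl : limit (Functor.ofOpSequence t) ⟶ ∏ᶜ M :=
  Pi.lift fun n => limit.π (Functor.ofOpSequence t) (op n)

/-- The difference of the identity and the shift. -/
noncomputable abbrev seqDiff : (∏ᶜ M) ⟶ ∏ᶜ M :=
  Pi.lift fun n => Pi.π M n - Pi.π M (n + 1) ≫ t n

theorem limit_π_succ (n : ℕ) :
    limit.π (Functor.ofOpSequence t) (op (n + 1)) ≫ t n = limit.π (Functor.ofOpSequence t) (op n) := by
  have := limit.w (Functor.ofOpSequence t) (homOfLE (Nat.le_add_right n 1)).op
  rwa [Functor.ofOpSequence_map_homOfLE_succ] at this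

theorem seqIncl_diff : seqIncl M t ≫ seqDiff M t = 0 := Pi.hom_ext _ _ fun n => by
  have := limit_π_succ M t n
  simp only [seqIncl, seqDiff, Category.assoc, Pi.lift_π, Preadditive.comp_sub, zero_comp]
  rw [Pi.lift_π_assoc, this, sub_self]

/-- The cone on an element killed by the difference. -/
noncomputable def seqCone {W : ModEt X} (k : W ⟶ ∏ᶜ M) (hk : k ≫ seqDiff M t = 0) :
    Cone (Functor.ofOpSequence t) :=
  ⟨W, NatTrans.ofOpSequence (fun n => k ≫ Pi.π M n) (fun n => by
    have h := hk =≫ Pi.π M n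
    simp only [seqDiff, Category.assoc, Pi.lift_π, Preadditive.comp_sub, zero_comp, sub_eq_zero] at h
    simpa using h)⟩

variable (hcart : ∀ n, IsCart (M n)) (ht : ∀ n, Epi (t n))

include hcart ht in
theorem surjective_app (n : ℕ) (E : EtOver X) (hE : IsAffine E.obj.left.left) :
    Function.Surjective ((t n).val.app (op E)) :=
  haveI := hE
  haveI := ht n
  surjective_secMap (t n) (hcart (n + 1)) (hcart n) E

include hcart ht in
theorem epi_seqDiff : Epi (seqDiff M t) := by
  refine epi_of_surjective_affine _ fun E hE y => ?_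
  choose g hg using fun n => surjective_app M t hcart ht n E hE
  let x : ∀ n, (M n).val.obj (op E) := fun n =>
    Nat.rec (motive := fun n => (M n).val.obj (op E)) 0
      (fun k xk => g k (xk - (Pi.π M k).val.app (op E) y)) n
  obtain ⟨w, hw⟩ := prod_exists (productIsProduct M) x
  refine ⟨w, prod_hom_ext (productIsProduct M) fun n => ?_⟩
  have h := congrArg (fun ψ : (∏ᶜ M) ⟶ M n => ψ.val.app (op E) w)
    (Pi.lift_π (fun n => Pi.π M n - Pi.π M (n + 1) ≫ t n) n)
  refine h.trans ?_
  change (Pi.π M n).val.app (op E) w - (t n).val.app (op E) ((Pi.π M (n + 1)).val.app (op E) w) = _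
  rw [hw n, hw (n + 1), hg n]
  exact sub_sub_cancel _ _

include hcart ht in
theorem shortExact_seq :
    (ShortComplex.mk (seqIncl M t) (seqDiff M t) (seqIncl_diff M t)).ShortExact where
  exact := ShortComplex.exact_of_f_is_kernel _ (KernelFork.IsLimit.ofι _ _
    (fun k hk => limit.lift _ (seqCone M t k hk))
    (fun k hk => Pi.hom_ext _ _ fun n => by simp [seqCone, seqIncl])
    (fun k hk m hm => limit.hom_ext fun ⟨n⟩ => by
      refine Eq.trans ?_ (limit.lift_π (seqCone M t k hk) (op n)).symm
      exact (congrArg (m ≫ ·) (Pi.lift_π (fun n => limit.π (Functor.ofOpSequence t) (op n)) n).symm).trans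
        ((Category.assoc _ _ _).symm.trans (congrArg (· ≫ Pi.π M n) hm))))
  mono_f := ⟨fun g h e => limit.hom_ext fun ⟨n⟩ => by simpa [seqIncl] using e =≫ Pi.π M n⟩
  epi_g := epi_seqDiff M t hcart ht

include hcart ht in
/-- The derived limit of a sequence of quasi-coherent modules with epimorphic transition maps. -/
theorem exists_distinguished [HasDerivedCategory.{w} (ModEt X)]
    [HasProduct fun n => (DerivedCategory.singleFunctor (ModEt X) 0).obj (M n)] :
    ∃ c : (∏ᶜ fun n => (DerivedCategory.singleFunctor (ModEt X) 0).obj (M n)) ⟶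
        ((DerivedCategory.singleFunctor (ModEt X) 0).obj (limit (Functor.ofOpSequence t)))⟦(1 : ℤ)⟧,
      Triangle.mk
        (Pi.lift (f := fun n => (DerivedCategory.singleFunctor (ModEt X) 0).obj (M n))
          fun n => (DerivedCategory.singleFunctor (ModEt X) 0).map
            (limit.π (Functor.ofOpSequence t) (op n)))
        (Pi.lift fun n => Pi.π (fun n => (DerivedCategory.singleFunctor (ModEt X) 0).obj (M n)) n -
          Pi.π (fun n => (DerivedCategory.singleFunctor (ModEt X) 0).obj (M n)) (n + 1) ≫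
            (DerivedCategory.singleFunctor (ModEt X) 0).map (t n))
        c ∈ distTriang _ := by
  let F := DerivedCategory.singleFunctor (ModEt X) 0
  let φ : F.obj (∏ᶜ M) ⟶ ∏ᶜ fun n => F.obj (M n) := Pi.lift fun n => F.map (Pi.π M n)
  haveI : IsIso φ := isIso_single_pi M fun n => H8.QCohVanish.good_of_isCart (M n) (hcart n)
  let hS := shortExact_seq M t hcart ht
  refine ⟨inv φ ≫ hS.singleδ, isomorphic_distinguished _ hS.singleTriangle_distinguished _
    (Triangle.isoMk _ _ (Iso.refl _) (asIso φ).symm (asIso φ).symm ?_ ?_ ?_)⟩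
  · change _ ≫ inv φ = 𝟙 _ ≫ F.map (seqIncl M t)
    rw [Category.id_comp, IsIso.comp_inv_eq]
    refine Pi.hom_ext _ _ fun n => ?_
    rw [Category.assoc, Pi.lift_π, ← F.map_comp, Pi.lift_π]
    exact Pi.lift_π _ _
  · change (Pi.lift fun n => Pi.π (fun n => F.obj (M n)) n -
        Pi.π (fun n => F.obj (M n)) (n + 1) ≫ F.map (t n)) ≫ inv φ = inv φ ≫ F.map (seqDiff M t)
    rw [IsIso.comp_inv_eq, Category.assoc, IsIso.eq_inv_comp]
    refine Pi.hom_ext _ _ fun n => ?_
    rw [Category.assoc, Category.assoc, Pi.lift_π, Pi.lift_π, Preadditive.comp_sub, Pi.lift_π,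
      Pi.lift_π_assoc, ← F.map_comp, ← F.map_comp, Pi.lift_π, F.map_sub]
  · change (inv φ ≫ hS.singleδ) ≫ (shiftFunctor _ (1 : ℤ)).map (𝟙 _) = inv φ ≫ hS.singleδ
    rw [(shiftFunctor _ (1 : ℤ)).map_id, Category.comp_id]

end Seq

end Groth.Agent.Lib.EtMod.ProdRes
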