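import Groth.Prelude.Def_AlgSpOX
import Groth.Agent.Lib.DerivedOX.Grothendieck

/-!
# Modules on the small etale site of an algebraic space form a Grothendieck abelian category
-/

set_option autoImplicit false
set_option linter.style.haveILetI false

universe u

open CategoryTheory CategoryTheory.Limits AlgebraicGeometry Opposite AlgSp

namespace Groth.Agent.Lib.EtMod.ProdRes

variable {S : Scheme.{u}} (X : Sp S)

/-- The presheaf of sets represented by an object, one universe up. -/
noncomputable abbrev repr (E : EtOver X) : (EtOver X)ᵒᵖ ⥤ Type (u + 1) :=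
  yoneda.obj E ⋙ uliftFunctor.{u + 1}

theorem hasSeparator_modEt : HasSeparator (ModEt X) := by
  let adj := PresheafOfModules.sheafificationAdjunction.{u + 1} (𝟙 (OEtRing X).obj)
  let G : EtOver X → ModEt X := fun E =>
    (PresheafOfModules.sheafification (𝟙 (OEtRing X).obj)).obj
      ((PresheafOfModules.free (OEtRing X).obj).obj (repr X E))
  refine ⟨⟨∐ G, ?_⟩⟩
  rw [isSeparator_sigma]
  intro M N f g h
  apply (SheafOfModules.forget (OEtRing X)).map_injective
  refine PresheafOfModules.hom_ext fun E => ModuleCat.hom_ext (LinearMap.ext fun m => ?_)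
  let k : (PresheafOfModules.free (OEtRing X).obj).obj (repr X E.unop) ⟶ M.val :=
    PresheafOfModules.freeObjDesc
      { app := fun W => ↾fun a => M.val.presheaf.map a.down.op m
        naturality := fun W W' a => by
          ext b
          change M.val.presheaf.map (a.unop ≫ b.down).op m = M.val.presheaf.map a (M.val.presheaf.map b.down.op m)
          rw [op_comp, Functor.map_comp, ConcreteCategory.comp_apply]
          rfl }
  have h1 := congr_arg (adj.homEquiv _ _) (h (G E.unop) ⟨E.unop⟩ ((adj.homEquiv _ _).symm k))
  rw [adj.homEquiv_naturality_right, adj.homEquiv_naturality_right, Equiv.apply_symm_apply] at h1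
  have hk : k.app E (ModuleCat.freeMk (⟨𝟙 E.unop⟩ : (repr X E.unop).obj E)) = m :=
    (ModuleCat.freeDesc_apply _ _).trans
      (ConcreteCategory.congr_hom (M.val.presheaf.map_id E) m)
  have h2 := congrArg (fun ψ => PresheafOfModules.Hom.app ψ E
    (ModuleCat.freeMk (⟨𝟙 E.unop⟩ : (repr X E.unop).obj E))) h1
  exact ((congrArg (f.val.app E) hk).symm.trans h2).trans (congrArg (g.val.app E) hk)

instance isGrothendieckAbelian_modEt : IsGrothendieckAbelian.{u + 1} (ModEt X) where
  hasSeparator := hasSeparator_modEt X
  hasFilteredColimitsOfSize := ⟨fun K _ _ => inferInstance⟩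
  ab5OfSize :=
    { ofShape := fun K _ _ => HasExactColimitsOfShape.domain_of_functor K (toAbEt X) }

instance enoughInjectives_modEt : EnoughInjectives (ModEt X) := inferInstance

end Groth.Agent.Lib.EtMod.ProdRes
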