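import Groth.Agent.Lib.ProEt.Cochain
import Mathlib.Algebra.Category.ModuleCat.Presheaf.Free
import Mathlib.Algebra.Category.ModuleCat.Presheaf.Abelian
import Mathlib.LinearAlgebra.Finsupp.LSum

/-!
# Cech cocycles of injective presheaves of modules are coboundaries
-/

set_option autoImplicit false

universe u

open CategoryTheory CategoryTheory.Limits Opposite

namespace Groth.Agent.Lib.EtMod.ProdRes

open Lib.ProEt.Cochain

variable {C : Type (u + 1)} [Category.{u} C] {R : Cᵒᵖ ⥤ RingCat.{u + 1}} {P U : C} {c : P ⟶ U}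
  {M N : PresheafOfModules.{u + 1} R}

/-- The free presheaf of modules on tuples. -/
noncomputable abbrev fT (c : P ⟶ U) (R : Cᵒᵖ ⥤ RingCat.{u + 1}) (n : ℕ) :
    PresheafOfModules.{u + 1} R :=
  (PresheafOfModules.free R).obj (tupPsh c n)

/-- A generator. -/
noncomputable abbrev mgen {n : ℕ} {W : Cᵒᵖ} (t : Tup c n W.unop) : (fT c R n).obj W :=
  ModuleCat.freeMk (⟨t⟩ : (tupPsh c n).obj W)

lemma fT_ext {n : ℕ} {f g : fT c R n ⟶ M}
    (h : ∀ (W : Cᵒᵖ) (t : Tup c n W.unop), f.app W (mgen t) = g.app W (mgen t)) : f = g :=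
  PresheafOfModules.hom_ext fun W => ModuleCat.free_hom_ext fun t => h W t.down

lemma fT_map_mgen {n : ℕ} {W W' : Cᵒᵖ} (g : W ⟶ W') (t : Tup c n W.unop) :
    (fT c R n).map g (mgen t) = mgen (res g.unop t) :=
  ModuleCat.freeDesc_apply _ _

/-- A cochain as a map out of the free presheaf of modules. -/
noncomputable def mToHom {n : ℕ} (x : Coch c M.presheaf n) : fT c R n ⟶ M :=
  PresheafOfModules.freeObjDesc
    { app := fun W => ↾fun t => x.app W.unop t.down
      naturality := fun W W' g => by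
        ext t
        exact x.naturality g.unop t.down }

lemma mToHom_gen {n : ℕ} (x : Coch c M.presheaf n) {W : Cᵒᵖ} (t : Tup c n W.unop) :
    (mToHom x).app W (mgen t) = x.app W.unop t :=
  ModuleCat.freeDesc_apply _ _

/-- A map out of the free presheaf of modules as a cochain. -/
noncomputable def mOfHom {n : ℕ} (y : fT c R n ⟶ M) : Coch c M.presheaf n where
  app W t := y.app (op W) (mgen (W := op W) t)
  naturality {W W'} g t :=
    (congrArg (y.app (op W')) (fT_map_mgen (W := op W) g.op t)).symm.trans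
      (PresheafOfModules.naturality_apply y g.op (mgen (W := op W) t))

/-- The boundary of the free complex. -/
noncomputable def mbd (c : P ⟶ U) (R : Cᵒᵖ ⥤ RingCat.{u + 1}) (n : ℕ) : fT c R (n + 1) ⟶ fT c R n :=
  mToHom (δ (mOfHom (𝟙 (fT c R n))))

lemma mbd_gen {n : ℕ} {W : Cᵒᵖ} (t : Tup c (n + 1) W.unop) :
    (mbd c R n).app W (mgen t) = ∑ i : Fin (n + 2), (-1 : ℤ) ^ (i : ℕ) • mgen (R := R) (face i t) :=
  mToHom_gen _ t

lemma δ_mOfHom {n : ℕ} (y : fT c R n ⟶ M) (W : C) (t : Tup c (n + 1) W) :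
    (δ (mOfHom y)).app W t = (mbd c R n ≫ y).app (op W) (mgen (W := op W) t) := by
  change _ = y.app (op W) ((mbd c R n).app (op W) (mgen (W := op W) t))
  rw [δ_app, mbd_gen]
  refine Eq.trans ?_ (map_sum (y.app (op W)).hom _ _).symm
  exact Finset.sum_congr rfl fun i _ => (map_zsmul (y.app (op W)).hom _ _).symm

lemma mbd_mToHom {n : ℕ} (x : Coch c M.presheaf n) (W : C) (t : Tup c (n + 1) W) :
    (mbd c R n ≫ mToHom x).app (op W) (mgen (W := op W) t) = (δ x).app W t := by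
  rw [← δ_mOfHom, δ_app, δ_app]
  refine Finset.sum_congr rfl fun i _ => congrArg _ ?_
  exact mToHom_gen x (W := op W) (face i t)

lemma mbd_mbd (c : P ⟶ U) (R : Cᵒᵖ ⥤ RingCat.{u + 1}) (n : ℕ) :
    mbd c R (n + 1) ≫ mbd c R n = 0 := by
  refine fT_ext fun W t => ?_
  exact (mbd_mToHom (δ (mOfHom (𝟙 (fT c R n)))) W.unop t).trans (δ_δ _ W.unop t)

section Contraction

variable (W : Cᵒᵖ)

/-- The formal sums of tuples. -/
abbrev FT (c : P ⟶ U) (R : Cᵒᵖ ⥤ RingCat.{u + 1}) (n : ℕ) : Type (u + 1) :=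
  (tupPsh c n).obj W →₀ R.obj W

/-- A point of `P` over the base point of a tuple. -/
noncomputable def pt₀ {n : ℕ} (t : Tup c n W.unop) : W.unop ⟶ P :=
  (⟨t.1 0, rfl⟩ : ∃ e : W.unop ⟶ P, e ≫ c = t.1 0 ≫ c).choose

lemma pt₀_comp {n : ℕ} (t : Tup c n W.unop) : pt₀ W t ≫ c = t.1 0 ≫ c :=
  (⟨t.1 0, rfl⟩ : ∃ e : W.unop ⟶ P, e ≫ c = t.1 0 ≫ c).choose_spec

lemma pt₀_congr {m m' : ℕ} (t : Tup c m W.unop) (t' : Tup c m' W.unop)
    (h : t.1 0 ≫ c = t'.1 0 ≫ c) : pt₀ W t = pt₀ W t' := by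
  have key : ∀ (a b : W.unop ⟶ U) (ha : ∃ e : W.unop ⟶ P, e ≫ c = a)
      (hb : ∃ e : W.unop ⟶ P, e ≫ c = b), a = b → ha.choose = hb.choose := by
    rintro a b ha hb rfl
    rfl
  exact key _ _ _ _ h

/-- The cone on a tuple. -/
noncomputable def cone₀ {n : ℕ} (t : Tup c n W.unop) : Tup c (n + 1) W.unop :=
  ⟨Fin.cons (pt₀ W t) t.1, fun a b => by
    have h : ∀ a, (Fin.cons (pt₀ W t) t.1 : Fin (n + 2) → (W.unop ⟶ P)) a ≫ c = t.1 0 ≫ c := by
      intro a
      induction a using Fin.cases with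
      | zero => rw [Fin.cons_zero]; exact pt₀_comp W t
      | succ a => rw [Fin.cons_succ]; exact t.2 _ _
    rw [h a, h b]⟩

lemma face_zero_cone₀ {n : ℕ} (t : Tup c n W.unop) : face 0 (cone₀ W t) = t :=
  Subtype.ext (funext fun a => by simp [face, cone₀])

lemma face_succ_cone₀ {n : ℕ} (t : Tup c (n + 1) W.unop) (i : Fin (n + 2)) :
    face i.succ (cone₀ W t) = cone₀ W (face i t) := by
  refine Subtype.ext (funext fun a => ?_)
  induction a using Fin.cases with
  | zero => simpa [face, cone₀] using (pt₀_congr W (face i t) t (t.2 _ _)).symm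
  | succ a => simp [face, cone₀]

/-- The contraction. -/
noncomputable def hom₀ (n : ℕ) : FT W c R n →ₗ[R.obj W] FT W c R (n + 1) :=
  Finsupp.lmapDomain _ _ fun t => ⟨cone₀ W t.down⟩

/-- The boundary on formal sums. -/
noncomputable def bd₀ (n : ℕ) : FT W c R (n + 1) →ₗ[R.obj W] FT W c R n :=
  ((mbd c R n).app W).hom

lemma bd₀_single (n : ℕ) (t : Tup c (n + 1) W.unop) :
    bd₀ W n (Finsupp.single (⟨t⟩ : (tupPsh c (n + 1)).obj W) 1) =
      ∑ i : Fin (n + 2), (-1 : ℤ) ^ (i : ℕ) •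
        (Finsupp.single (⟨face i t⟩ : (tupPsh c n).obj W) (1 : R.obj W) : FT W c R n) :=
  mbd_gen t

lemma hom₀_single (n : ℕ) (t : Tup c n W.unop) :
    hom₀ W n (Finsupp.single (⟨t⟩ : (tupPsh c n).obj W) 1) =
      (Finsupp.single (⟨cone₀ W t⟩ : (tupPsh c (n + 1)).obj W) (1 : R.obj W) : FT W c R (n + 1)) :=
  Finsupp.mapDomain_single

lemma homotopy₀ (n : ℕ) :
    (bd₀ (c := c) (R := R) W (n + 1)).comp (hom₀ W (n + 1)) + (hom₀ W n).comp (bd₀ W n) = LinearMap.id := by
  refine Finsupp.lhom_ext' fun t => LinearMap.ext_ring ?_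
  obtain ⟨t⟩ := t
  change bd₀ W (n + 1) (hom₀ W (n + 1) (Finsupp.single ⟨t⟩ 1)) +
    hom₀ W n (bd₀ W n (Finsupp.single ⟨t⟩ 1)) = Finsupp.single ⟨t⟩ 1
  rw [hom₀_single, bd₀_single, bd₀_single, map_sum, Fin.sum_univ_succ, face_zero_cone₀]
  simp only [map_zsmul, hom₀_single, face_succ_cone₀, Fin.val_zero, pow_zero, one_smul,
    Fin.val_succ, pow_succ, mul_neg, mul_one, neg_smul, Finset.sum_neg_distrib]
  abel

end Contraction

/-- The free complex of tuples is exact in positive degrees. -/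
theorem exact_mbd (c : P ⟶ U) (R : Cᵒᵖ ⥤ RingCat.{u + 1}) (n : ℕ) :
    (ShortComplex.mk (mbd c R (n + 1)) (mbd c R n) (mbd_mbd c R n)).Exact := by
  rw [← ShortComplex.exact_map_iff_of_faithful _ (PresheafOfModules.toPresheaf R),
    ShortComplex.exact_iff_isZero_homology, Functor.isZero_iff]
  intro W
  refine IsZero.of_iso ?_ (((ShortComplex.mk _ _ (mbd_mbd c R n)).map
    (PresheafOfModules.toPresheaf R)).mapHomologyIso
      ((evaluation Cᵒᵖ AddCommGrpCat.{u + 1}).obj W)).symm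
  refine (ShortComplex.exact_iff_isZero_homology _).mp ?_
  rw [ShortComplex.ab_exact_iff]
  intro z hz
  refine ⟨hom₀ W (n + 1) (z : FT W c R (n + 1)), ?_⟩
  have h := LinearMap.congr_fun (homotopy₀ (c := c) (R := R) W n) (z : FT W c R (n + 1))
  rw [LinearMap.add_apply, LinearMap.comp_apply, LinearMap.comp_apply, LinearMap.id_apply,
    show bd₀ W n (z : FT W c R (n + 1)) = 0 from hz, map_zero, add_zero] at h
  exact h

/-- Cocycles of an injective presheaf of modules are coboundaries. -/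
theorem exists_eq_δ_of_injective_mod [Injective M] {n : ℕ} (x : Coch c M.presheaf (n + 1))
    (hx : ∀ W t, (δ x).app W t = 0) : ∃ y : Coch c M.presheaf n, δ y = x := by
  have h : mbd c R (n + 1) ≫ mToHom x = 0 :=
    fT_ext fun W t => (mbd_mToHom x W.unop t).trans (hx _ t)
  refine ⟨mOfHom ((exact_mbd c R n).descToInjective (mToHom x) h), ?_⟩
  ext W t
  rw [δ_mOfHom]
  have h1 := (exact_mbd c R n).comp_descToInjective (mToHom x) h
  exact (congrArg (fun φ : fT c R (n + 1) ⟶ M => φ.app (op W) (mgen t)) h1).trans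
    (mToHom_gen x (W := op W) t)

end Groth.Agent.Lib.EtMod.ProdRes
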