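import Groth.Agent.H8.MVPush
import Groth.Agent.Lib.EtMod.ProdRes.Groth
import Mathlib.CategoryTheory.Preadditive.AdditiveFunctor
import Mathlib.CategoryTheory.Adjunction.Additive
import Mathlib.CategoryTheory.Abelian.Exact

/-!
# The Mayer-Vietoris sequence of extensions by zero, by duality from the one of direct images
-/

set_option autoImplicit false
set_option backward.isDefEq.respectTransparency false
set_option linter.style.haveILetI false

universe u v w

open CategoryTheory CategoryTheory.Limits AlgebraicGeometry AlgSp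

namespace Groth.Agent.Lib.EtMod.ProdRes

section Generic

variable {A : Type w} [Category.{v} A] [Abelian A] {RU RV RW : A ⥤ A} {F P Q W : A}
  (eU : ∀ G, (P ⟶ G) ≃+ (F ⟶ RU.obj G)) (eV : ∀ G, (Q ⟶ G) ≃+ (F ⟶ RV.obj G))
  (eW : ∀ G, (W ⟶ G) ≃+ (F ⟶ RW.obj G))
  (ηU : ∀ G, G ⟶ RU.obj G) (ηV : ∀ G, G ⟶ RV.obj G)
  (βU : ∀ G, RU.obj G ⟶ RW.obj G) (βV : ∀ G, RV.obj G ⟶ RW.obj G)
  (pU : P ⟶ F) (pV : Q ⟶ F) (a : W ⟶ P) (b : W ⟶ Q)

/-- A sequence is short exact when its duals are left exact, and split exact at injectives. -/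
theorem shortExact_of_dual [EnoughInjectives A]
    (hpU : ∀ G (h : F ⟶ G), eU G (pU ≫ h) = h ≫ ηU G)
    (hpV : ∀ G (h : F ⟶ G), eV G (pV ≫ h) = h ≫ ηV G)
    (ha : ∀ G (k : P ⟶ G), eW G (a ≫ k) = eU G k ≫ βU G)
    (hb : ∀ G (k : Q ⟶ G), eW G (b ≫ k) = eV G k ≫ βV G)
    (hMV : ∀ G, ∃ h : biprod.lift (ηU G) (ηV G) ≫ biprod.desc (βU G) (-(βV G)) = 0,
      (ShortComplex.mk _ _ h).ShortExact) :
    ∃ h : biprod.lift a (-b) ≫ biprod.desc pU pV = 0, (ShortComplex.mk _ _ h).ShortExact := by
  have hcomb : ∀ {G : A} (kU : P ⟶ G) (kV : Q ⟶ G),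
      eW G (biprod.lift a (-b) ≫ biprod.desc kU kV) = eU G kU ≫ βU G - eV G kV ≫ βV G := fun kU kV => by
    rw [biprod.lift_desc, Preadditive.neg_comp, ← sub_eq_add_neg, map_sub, ha, hb]
  have hw : ∀ {G : A} (h : F ⟶ G),
      (h ≫ ηU G) ≫ βU G - (h ≫ ηV G) ≫ βV G = 0 := fun {G} h => by
    obtain ⟨w, -⟩ := hMV G
    rw [biprod.lift_desc, Preadditive.comp_neg, ← sub_eq_add_neg] at w
    rw [Category.assoc, Category.assoc, ← Preadditive.comp_sub, w, comp_zero]
  have w0 : biprod.lift a (-b) ≫ biprod.desc pU pV = 0 := by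
    refine (eW F).injective ?_
    rw [hcomb, map_zero, ← Category.comp_id pU, hpU, ← Category.comp_id pV, hpV]
    exact hw (𝟙 F)
  have hepi : Epi (biprod.desc pU pV) := ⟨fun {G} h₁ h₂ e => by
    obtain ⟨w, hS⟩ := hMV G
    haveI := hS.mono_f
    rw [← cancel_mono (biprod.lift (ηU G) (ηV G))]
    refine biprod.hom_ext _ _ ?_ ?_
    · rw [Category.assoc, Category.assoc, biprod.lift_fst, ← hpU, ← hpU]
      exact congrArg (eU G) (by simpa using biprod.inl ≫= e)
    · rw [Category.assoc, Category.assoc, biprod.lift_snd, ← hpV, ← hpV]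
      exact congrArg (eV G) (by simpa using biprod.inr ≫= e)⟩
  have hfac : ∀ {G : A} (k : P ⊞ Q ⟶ G), biprod.lift a (-b) ≫ k = 0 →
      ∃ h : F ⟶ G, biprod.desc pU pV ≫ h = k := fun {G} k hk => by
    obtain ⟨w, hS⟩ := hMV G
    haveI := hS.mono_f
    have hk' : k = biprod.desc (biprod.inl ≫ k) (biprod.inr ≫ k) := by ext <;> simp
    have h0 : biprod.lift (eU G (biprod.inl ≫ k)) (eV G (biprod.inr ≫ k)) ≫
        biprod.desc (βU G) (-(βV G)) = 0 := by
      rw [biprod.lift_desc, Preadditive.comp_neg, ← sub_eq_add_neg, ← hcomb, ← hk', hk, map_zero]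
    let h := hS.exact.lift _ h0
    have hh : h ≫ biprod.lift (ηU G) (ηV G) =
        biprod.lift (eU G (biprod.inl ≫ k)) (eV G (biprod.inr ≫ k)) := hS.exact.lift_f _ h0
    refine ⟨h, biprod.hom_ext' _ _ ?_ ?_⟩
    · rw [biprod.inl_desc_assoc]
      refine (eU G).injective ?_
      rw [hpU]
      simpa using hh =≫ biprod.fst
    · rw [biprod.inr_desc_assoc]
      refine (eV G).injective ?_
      rw [hpV]
      simpa using hh =≫ biprod.snd
  have hmono : Mono (biprod.lift a (-b)) := by
    let ι := Injective.ι W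
    obtain ⟨w, hS⟩ := hMV (Injective.under W)
    haveI : Injective (ShortComplex.mk _ _ w).X₁ := inferInstanceAs (Injective (Injective.under W))
    haveI := hS.mono_f
    let σ := hS.splittingOfInjective
    let y := eW _ ι ≫ σ.s
    have hy : biprod.lift (y ≫ biprod.fst) (y ≫ biprod.snd) ≫ biprod.desc (βU _) (-(βV _)) = eW _ ι := by
      have h1 : biprod.lift (y ≫ biprod.fst) (y ≫ biprod.snd) = y := by ext <;> simp
      rw [h1, Category.assoc]
      exact (congrArg (eW _ ι ≫ ·) σ.s_g).trans (Category.comp_id _)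
    have hι : biprod.lift a (-b) ≫
        biprod.desc ((eU _).symm (y ≫ biprod.fst)) ((eV _).symm (y ≫ biprod.snd)) = ι := by
      refine (eW _).injective ?_
      rw [hcomb, AddEquiv.apply_symm_apply, AddEquiv.apply_symm_apply]
      rw [biprod.lift_desc, Preadditive.comp_neg, ← sub_eq_add_neg] at hy
      exact hy
    exact mono_of_mono_fac hι
  refine ⟨w0, ?_⟩
  exact
    { exact := ShortComplex.exact_of_g_is_cokernel _ (CokernelCofork.IsColimit.ofπ _ _
        (fun k hk => (hfac k hk).choose) (fun k hk => (hfac k hk).choose_spec)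
        (fun k hk m hm => (cancel_epi (biprod.desc pU pV)).1 (hm.trans (hfac k hk).choose_spec.symm)))
      mono_f := hmono
      epi_g := hepi }

end Generic

section Conjugate

variable {A : Type w} [Category.{v} A] {L₁ L₂ R₁ R₂ : A ⥤ A}

theorem homEquiv_conjugate_symm (adj₁ : L₁ ⊣ R₁) (adj₂ : L₂ ⊣ R₂) (β : R₁ ⟶ R₂) {F G : A}
    (k : L₁.obj F ⟶ G) :
    adj₂.homEquiv F G (((conjugateEquiv adj₁ adj₂).symm β).app F ≫ k) = adj₁.homEquiv F G k ≫ β.app G := by
  have h := unit_conjugateEquiv adj₁ adj₂ ((conjugateEquiv adj₁ adj₂).symm β) F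
  rw [Equiv.apply_symm_apply] at h
  rw [Adjunction.homEquiv_unit, Adjunction.homEquiv_unit, R₂.map_comp, ← Category.assoc, ← h,
    Category.assoc, Category.assoc]
  exact congrArg (adj₁.unit.app F ≫ ·) (β.naturality k).symm

end Conjugate

variable {S : Scheme.{u}} {X : Sp S}

theorem homEquiv_counit_comp (U : EtOver X) [(resModEt U).IsRightAdjoint] {F G : ModEt X} (h : F ⟶ G) :
    (shriekResAdj U).homEquiv F G ((Adjunction.ofIsRightAdjoint (resModEt U)).counit.app F ≫ h) =
      h ≫ (resPushAdjEt U).unit.app G := by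
  have h1 : (Adjunction.ofIsRightAdjoint (resModEt U)).homEquiv _ _
      ((Adjunction.ofIsRightAdjoint (resModEt U)).counit.app F ≫ h) = (resModEt U).map h := by
    rw [Adjunction.homEquiv_naturality_right, Adjunction.homEquiv_unit]
    simp
  change ((resPushAdjEt U).comp (Adjunction.ofIsRightAdjoint (resModEt U))).homEquiv F G _ = _
  rw [Adjunction.comp_homEquiv]
  change (resPushAdjEt U).homEquiv F _ ((Adjunction.ofIsRightAdjoint (resModEt U)).homEquiv _ _
    ((Adjunction.ofIsRightAdjoint (resModEt U)).counit.app F ≫ h)) = _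
  rw [h1, Adjunction.homEquiv_unit]
  exact ((resPushAdjEt U).unit.naturality h).symm

/-- Homs out of an extension by zero of a restriction, additively. -/
noncomputable def shriekEquiv (U : EtOver X) [(resModEt U).IsRightAdjoint] (F G : ModEt X) :
    ((shriekRes U).obj F ⟶ G) ≃+ (F ⟶ (resModEt U ⋙ pushOnModEt U).obj G) :=
  haveI : (shriekRes (X := X) U).Additive := (shriekResAdj U).left_adjoint_additive
  (shriekResAdj U).homAddEquiv F G

theorem shriekEquiv_apply (U : EtOver X) [(resModEt U).IsRightAdjoint] (F G : ModEt X)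
    (k : (shriekRes U).obj F ⟶ G) : shriekEquiv U F G k = (shriekResAdj U).homEquiv F G k := rfl

/-- The Mayer-Vietoris sequence of extensions by zero. -/
theorem shortExact_shriek (hX : IsAlgSpace X) (U V : EtOver X) (hsq : IsElemDistSq U.obj.hom V.obj.hom)
    [(resModEt U).IsRightAdjoint] [(resModEt V).IsRightAdjoint]
    [(resModEt (EtOver.prodObj U V)).IsRightAdjoint] (F : ModEt X) :
    ∃ h : biprod.lift ((shriekResNatTrans (EtOver.prodFst U V)).app F)
          (-((shriekResNatTrans (EtOver.prodSnd U V)).app F)) ≫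
        biprod.desc ((Adjunction.ofIsRightAdjoint (resModEt U)).counit.app F)
          ((Adjunction.ofIsRightAdjoint (resModEt V)).counit.app F) = 0,
      (ShortComplex.mk _ _ h).ShortExact :=
  shortExact_of_dual (RU := resModEt U ⋙ pushOnModEt U) (RV := resModEt V ⋙ pushOnModEt V)
    (RW := resModEt (EtOver.prodObj U V) ⋙ pushOnModEt (EtOver.prodObj U V))
    (fun G => shriekEquiv U F G) (fun G => shriekEquiv V F G)
    (fun G => shriekEquiv (EtOver.prodObj U V) F G)
    (fun G => (resPushAdjEt U).unit.app G) (fun G => (resPushAdjEt V).unit.app G)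
    (fun G => (pushResNatTrans (EtOver.prodFst U V)).app G)
    (fun G => (pushResNatTrans (EtOver.prodSnd U V)).app G) _ _ _ _
    (fun G h => homEquiv_counit_comp U h) (fun G h => homEquiv_counit_comp V h)
    (fun G k => homEquiv_conjugate_symm (shriekResAdj U) (shriekResAdj (EtOver.prodObj U V)) _ k)
    (fun G k => homEquiv_conjugate_symm (shriekResAdj V) (shriekResAdj (EtOver.prodObj U V)) _ k)
    (fun G => H8.MVPush.shortExact hX U V hsq G)

end Groth.Agent.Lib.EtMod.ProdRes
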