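import Groth.Agent.Lib.EtMod.ProdRes.Sections
import Groth.Agent.Lib.DerCat.ProdPlus
import Mathlib.CategoryTheory.Abelian.Injective.Extend

/-!
# Products of injective resolutions of modules that are good
-/

set_option autoImplicit false
set_option linter.style.haveILetI false
set_option backward.isDefEq.respectTransparency false

universe u w v t

open CategoryTheory CategoryTheory.Limits AlgebraicGeometry Opposite AlgSp

namespace Groth.Agent.Lib.EtMod.ProdRes

section Fan

variable {A : Type u} [Category.{v} A] [Abelian A] [HasDerivedCategory.{w} A]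

/-- Products of K-injective complexes are products in the derived category. -/
theorem nonempty_isLimit_Q_fan {T : Type t} [HasLimitsOfShape (Discrete T) A]
    (I : T → CochainComplex A ℤ) (hI : ∀ j, (I j).IsKInjective) :
    Nonempty (IsLimit (Fan.mk (DerivedCategory.Q.obj (∏ᶜ I))
      fun j => DerivedCategory.Q.map (Pi.π I j))) := by
  have hP : (∏ᶜ I).IsKInjective := DerCat.KInjLim.isKInjective_prod I hI
  have hlim := DerCat.HProd.isLimitFan I
  let q := HomotopyCategory.quotient A (ComplexShape.up ℤ)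
  let θ := DerivedCategory.quotientCompQhIso A
  have hb : ∀ (X : HomotopyCategory A (ComplexShape.up ℤ)) (J : CochainComplex A ℤ) [J.IsKInjective],
      Function.Bijective (DerivedCategory.Qh.map : (X ⟶ q.obj J) → _) := fun X J _ =>
    CochainComplex.IsKInjective.Qh_map_bijective X J
  let F : Fan (fun j => DerivedCategory.Q.obj (I j)) :=
    Fan.mk (DerivedCategory.Qh.obj (q.obj (∏ᶜ I)))
      fun j => DerivedCategory.Qh.map (q.map (Pi.π I j)) ≫ θ.hom.app (I j)
  let θ' : ∀ J, DerivedCategory.Qh.obj (q.obj J) ≅ DerivedCategory.Q.obj J := fun J => θ.app J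
  have ex : ∀ (W : DerivedCategory A) (j : T) (f : W ⟶ DerivedCategory.Q.obj (I j)),
      ∃ g, DerivedCategory.Qh.map g =
        (DerivedCategory.Qh.objObjPreimageIso W).hom ≫ f ≫ (θ' (I j)).inv :=
    fun W j f => (@hb _ (I j) (hI j)).2 _
  choose pre hpre using ex
  have hF : IsLimit F := Fan.IsLimit.mk _
      (fun s => (DerivedCategory.Qh.objObjPreimageIso s.pt).inv ≫
        DerivedCategory.Qh.map (Fan.IsLimit.lift hlim fun j => pre s.pt j (s.proj j)))
      (fun s j => by
        change (_ ≫ _) ≫ DerivedCategory.Qh.map (q.map (Pi.π I j)) ≫ (θ' (I j)).hom = _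
        rw [Category.assoc, ← DerivedCategory.Qh.map_comp_assoc]
        erw [Fan.IsLimit.fac hlim]
        rw [hpre]
        simp)
      (fun s m hm => by
        rw [← cancel_epi (DerivedCategory.Qh.objObjPreimageIso s.pt).hom, Iso.hom_inv_id_assoc]
        obtain ⟨g, hg⟩ := (hb _ (∏ᶜ I)).2 ((DerivedCategory.Qh.objObjPreimageIso s.pt).hom ≫ m)
        rw [← hg]
        refine congrArg _ (Fan.IsLimit.hom_ext hlim _ _ fun j => ?_)
        erw [Fan.IsLimit.fac hlim]
        apply (@hb _ (I j) (hI j)).1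
        rw [hpre, DerivedCategory.Qh.map_comp, hg, ← cancel_mono (θ' (I j)).hom]
        simp only [Category.assoc, Iso.inv_hom_id, Category.comp_id]
        rw [← hm j]
        rfl)
  exact ⟨hF.ofIsoLimit (Fan.ext (θ' (∏ᶜ I)) fun j => θ.hom.naturality (Pi.π I j))⟩

end Fan

section Single

variable {A : Type u} [Category.{v} A] [Abelian A]

theorem quasiIsoAt_single_zero_iff {M : A} {L : CochainComplex A ℤ}
    (φ : (CochainComplex.singleFunctor A 0).obj M ⟶ L) (hL : L.d (-1) 0 = 0) :
    QuasiIsoAt φ 0 ↔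
      (ShortComplex.mk (φ.f 0) (L.d 0 1) (by rw [φ.comm 0 1]; simp [CochainComplex.singleFunctor, CochainComplex.singleFunctors])).Exact ∧
        Mono (φ.f 0) := by
  rw [quasiIsoAt_iff' φ (-1) 0 1 (by simp) (by simp), ShortComplex.quasiIso_iff_of_zeros]
  · rfl
  · exact (HomologicalComplex.isZero_single_obj_X (ComplexShape.up ℤ) 0 M (-1) (by omega)).eq_of_src _ _
  · exact (HomologicalComplex.isZero_single_obj_X (ComplexShape.up ℤ) 0 M 1 (by omega)).eq_of_tgt _ _
  · exact hL

theorem quasiIsoAt_single_ne_zero_iff {M : A} {L : CochainComplex A ℤ}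
    (φ : (CochainComplex.singleFunctor A 0).obj M ⟶ L) {i : ℤ} (hi : i ≠ 0) :
    QuasiIsoAt φ i ↔ L.ExactAt i :=
  quasiIsoAt_iff_exactAt φ i (HomologicalComplex.exactAt_single_obj _ _ _ _ hi)

end Single

variable {S : Scheme.{u}} {X : Sp S}

/-- The sections of an injective resolution, extended to all degrees. -/
theorem exists_d_eq' {M : ModEt X} (R : InjectiveResolution M)
    (hM : H8.QCohVanish.Good (H8.QCohVanish.covers X) ((toAbEt X).obj M)) (E : EtOver X)
    (hE : IsAffine E.obj.left.left) (i : ℤ) (hi : i ≠ 0) (x : (R.cochainComplex.X i).val.obj (op E))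
    (hx : (R.cochainComplex.d i (i + 1)).val.app (op E) x = 0) :
    ∃ y, (R.cochainComplex.d (i - 1) i).val.app (op E) y = x := by
  rcases lt_or_gt_of_ne hi with h | h
  · refine ⟨0, ?_⟩
    have h0 : 𝟙 (R.cochainComplex.X i) = 0 :=
      (CochainComplex.isZero_of_isStrictlyGE _ 0 i h).eq_of_src _ _
    rw [map_zero]
    exact (congrArg (fun ψ : R.cochainComplex.X i ⟶ R.cochainComplex.X i => ψ.val.app (op E) x) h0).symm
  · obtain ⟨k, rfl⟩ : ∃ k : ℕ, i = (k : ℤ) + 1 := ⟨(i - 1).toNat, by omega⟩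
    let e₀ := R.cochainComplexXIso ((k : ℤ) + 1 - 1) k (by simp)
    let e₁ := R.cochainComplexXIso ((k : ℤ) + 1) (k + 1) (by simp)
    let e₂ := R.cochainComplexXIso ((k : ℤ) + 1 + 1) (k + 2) (by push_cast; ring)
    have d₀ : R.cochainComplex.d _ _ = e₀.hom ≫ R.cocomplex.d k (k + 1) ≫ e₁.inv :=
      R.cochainComplex_d _ _ _ _ _ _
    have d₁ : R.cochainComplex.d _ _ = e₁.hom ≫ R.cocomplex.d (k + 1) (k + 2) ≫ e₂.inv :=
      R.cochainComplex_d _ _ _ _ _ _
    have hcomp : ∀ {P Q : ModEt X} (e : P ≅ Q) (z : Q.val.obj (op E)),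
        e.hom.val.app (op E) (e.inv.val.app (op E) z) = z := fun {P Q} e z =>
      congrArg (fun ψ : Q ⟶ Q => ψ.val.app (op E) z) e.inv_hom_id
    have hcomp' : ∀ {P Q : ModEt X} (e : P ≅ Q) (z : P.val.obj (op E)),
        e.inv.val.app (op E) (e.hom.val.app (op E) z) = z := fun {P Q} e z =>
      congrArg (fun ψ : P ⟶ P => ψ.val.app (op E) z) e.hom_inv_id
    rw [d₁] at hx
    have hx' : (R.cocomplex.d (k + 1) (k + 2)).val.app (op E) (e₁.hom.val.app (op E) x) = 0 := by
      rw [← hcomp e₂ ((R.cocomplex.d (k + 1) (k + 2)).val.app (op E) (e₁.hom.val.app (op E) x))]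
      exact (congrArg (e₂.hom.val.app (op E)) hx).trans (map_zero _)
    obtain ⟨y, hy⟩ := exists_d_eq R hM E hE k _ hx'
    refine ⟨e₀.inv.val.app (op E) y, ?_⟩
    rw [d₀]
    change e₁.inv.val.app (op E) ((R.cocomplex.d k (k + 1)).val.app (op E)
      (e₀.hom.val.app (op E) (e₀.inv.val.app (op E) y))) = x
    rw [hcomp, hy, hcomp']

variable (M : ℕ → ModEt X)

/-- The chosen resolutions. -/
noncomputable abbrev res' (n : ℕ) : CochainComplex (ModEt X) ℤ :=
  (InjectiveResolution.of (M n)).cochainComplex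

/-- The map from the product into the product of the resolutions. -/
noncomputable abbrev toProdRes :
    (CochainComplex.singleFunctor (ModEt X) 0).obj (∏ᶜ M) ⟶ ∏ᶜ res' M :=
  Pi.lift fun n => (CochainComplex.singleFunctor (ModEt X) 0).map (Pi.π M n) ≫
    (InjectiveResolution.of (M n)).ι'

/-- The components of the product of the resolutions form limit fans. -/
noncomputable def isLimitResFan (i : ℤ) :
    IsLimit (Fan.mk ((∏ᶜ res' M).X i) fun n => (Pi.π (res' M) n).f i) :=
  isLimitMapConeFanMkEquiv _ _ _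
    (isLimitOfPreserves (HomologicalComplex.eval (ModEt X) (ComplexShape.up ℤ) i)
      (productIsProduct (res' M)))

/-- The degree zero component of the augmentation. -/
noncomputable abbrev aug (n : ℕ) : M n ⟶ (res' M n).X 0 :=
  (HomologicalComplex.singleObjXSelf (ComplexShape.up ℤ) 0 (M n)).inv ≫
    (InjectiveResolution.of (M n)).ι'.f 0

/-- The degree zero component of the map from the product. -/
noncomputable abbrev augProd : (∏ᶜ M) ⟶ (∏ᶜ res' M).X 0 :=
  (HomologicalComplex.singleObjXSelf (ComplexShape.up ℤ) 0 (∏ᶜ M)).inv ≫ (toProdRes M).f 0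

theorem augProd_π (n : ℕ) : augProd M ≫ (Pi.π (res' M) n).f 0 = Pi.π M n ≫ aug M n := by
  change (_ ≫ (toProdRes M).f 0) ≫ _ = _
  rw [Category.assoc, ← HomologicalComplex.comp_f, Pi.lift_π, HomologicalComplex.comp_f]
  change _ ≫ ((HomologicalComplex.single (ModEt X) (ComplexShape.up ℤ) 0).map (Pi.π M n)).f 0 ≫ _ = _
  rw [HomologicalComplex.single_map_f_self, Category.assoc, Category.assoc, Iso.inv_hom_id_assoc]

theorem aug_d (n : ℕ) : aug M n ≫ (res' M n).d 0 1 = 0 := by
  rw [Category.assoc, (InjectiveResolution.of (M n)).ι'.comm 0 1]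
  simp [CochainComplex.singleFunctor, CochainComplex.singleFunctors]

theorem aug_exact (n : ℕ) :
    (ShortComplex.mk (aug M n) ((res' M n).d 0 1) (aug_d M n)).Exact ∧ Mono (aug M n) := by
  obtain ⟨h1, h2⟩ := (quasiIsoAt_single_zero_iff (InjectiveResolution.of (M n)).ι'
    ((CochainComplex.isZero_of_isStrictlyGE (res' M n) 0 (-1) (by omega)).eq_of_src _ _)).1
    ((inferInstance : QuasiIso (InjectiveResolution.of (M n)).ι').quasiIsoAt 0)
  refine ⟨(ShortComplex.exact_iff_of_iso ?_).1 h1, mono_comp _ _⟩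
  exact ShortComplex.isoMk (HomologicalComplex.singleObjXSelf (ComplexShape.up ℤ) 0 (M n))
    (Iso.refl _) (Iso.refl _) (by simp [aug]) (by simp)

theorem π_f_d (n : ℕ) (i j : ℤ) (E : EtOver X) (x : ((∏ᶜ res' M).X i).val.obj (op E)) :
    ((res' M n).d i j).val.app (op E) (((Pi.π (res' M) n).f i).val.app (op E) x) =
      ((Pi.π (res' M) n).f j).val.app (op E) (((∏ᶜ res' M).d i j).val.app (op E) x) :=
  congrArg (fun ψ : (∏ᶜ res' M).X i ⟶ (res' M n).X j => ψ.val.app (op E) x) ((Pi.π (res' M) n).comm i j)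

theorem prodRes_d_neg_one : (∏ᶜ res' M).d (-1) 0 = 0 := by
  refine (isLimitResFan M 0).hom_ext fun ⟨n⟩ => ?_
  change (∏ᶜ res' M).d (-1) 0 ≫ (Pi.π (res' M) n).f 0 = 0 ≫ (Pi.π (res' M) n).f 0
  rw [← (Pi.π (res' M) n).comm, zero_comp,
    (CochainComplex.isZero_of_isStrictlyGE (res' M n) 0 (-1) (by omega)).eq_of_src
      ((res' M n).d (-1) 0) 0, comp_zero]

theorem augProd_d : augProd M ≫ (∏ᶜ res' M).d 0 1 = 0 := by
  rw [Category.assoc, (toProdRes M).comm 0 1]
  simp [CochainComplex.singleFunctor, CochainComplex.singleFunctors]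

theorem exact_augProd :
    (ShortComplex.mk (augProd M) ((∏ᶜ res' M).d 0 1) (augProd_d M)).Exact := by
  refine exact_of_affine fun E hE x hx => ?_
  have hc : ∀ n, ∃ z, (aug M n).val.app (op E) z = ((Pi.π (res' M) n).f 0).val.app (op E) x := by
    intro n
    haveI := (aug_exact M n).2
    refine exists_app_of_exact _ _ _ (aug_exact M n).1 E _ ?_
    rw [π_f_d]
    exact (congrArg _ hx).trans (map_zero _)
  choose z hz using hc
  obtain ⟨w, hw⟩ := prod_exists (productIsProduct M) z
  refine ⟨w, prod_hom_ext (isLimitResFan M 0) fun n => ?_⟩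
  rw [← hz n, ← hw n]
  exact congrArg (fun ψ : (∏ᶜ M) ⟶ (res' M n).X 0 => ψ.val.app (op E) w) (augProd_π M n)

theorem mono_augProd : Mono (augProd M) := by
  constructor
  intro W a b hab
  refine Pi.hom_ext _ _ fun n => ?_
  haveI := (aug_exact M n).2
  rw [← cancel_mono (aug M n), Category.assoc, Category.assoc, ← augProd_π, ← Category.assoc, hab,
    Category.assoc]

variable (hM : ∀ n, H8.QCohVanish.Good (H8.QCohVanish.covers X) ((toAbEt X).obj (M n)))

include hM in
theorem exactAt_prodRes (i : ℤ) (hi : i ≠ 0) : (∏ᶜ res' M).ExactAt i := by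
  rw [HomologicalComplex.exactAt_iff' _ (i - 1) i (i + 1) (by simp) (by simp)]
  refine exact_of_affine fun E hE x hx => ?_
  have hc : ∀ n, ∃ y, ((res' M n).d (i - 1) i).val.app (op E) y =
      ((Pi.π (res' M) n).f i).val.app (op E) x := fun n => by
    refine exists_d_eq' _ (hM n) E hE i hi _ ?_
    rw [π_f_d]
    exact (congrArg _ hx).trans (map_zero _)
  choose y hy using hc
  obtain ⟨w, hw⟩ := prod_exists (isLimitResFan M (i - 1)) y
  refine ⟨w, prod_hom_ext (isLimitResFan M i) fun n => ?_⟩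
  rw [← hy n, ← hw n]
  exact (π_f_d M n (i - 1) i E w).symm

include hM in
/-- The product of resolutions resolves the product. -/
theorem quasiIso_toProdRes : QuasiIso (toProdRes M) := by
  refine ⟨fun i => ?_⟩
  by_cases hi : i = 0
  · subst hi
    refine (quasiIsoAt_single_zero_iff _ (prodRes_d_neg_one M)).2 ⟨?_, ?_⟩
    · refine (ShortComplex.exact_iff_of_iso ?_).1 (exact_augProd M)
      exact ShortComplex.isoMk (HomologicalComplex.singleObjXSelf (ComplexShape.up ℤ) 0 (∏ᶜ M)).symm
        (Iso.refl _) (Iso.refl _) (by simp [augProd]) (by simp)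
    · haveI := mono_augProd M
      rw [show (toProdRes M).f 0 =
        (HomologicalComplex.singleObjXSelf (ComplexShape.up ℤ) 0 (∏ᶜ M)).hom ≫ augProd M by simp [augProd]]
      exact mono_comp _ _
  · exact (quasiIsoAt_single_ne_zero_iff _ hi).2 (exactAt_prodRes M hM i hi)

end Groth.Agent.Lib.EtMod.ProdRes
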