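import Groth.Agent.Lib.EtMod.ProdRes.Groth
import Groth.Agent.Lib.EtMod.ProdRes.ModCech
import Groth.Agent.H8.QCohVanish.Good
import Groth.Agent.H8.QCohVanish.Push
import Groth.Agent.Lib.EtMod.Exact

/-!
# Sections of injective resolutions of quasi-coherent modules over affine objects
-/

set_option autoImplicit false
set_option linter.style.haveILetI false
set_option backward.isDefEq.respectTransparency false

universe u

open CategoryTheory CategoryTheory.Limits AlgebraicGeometry Opposite AlgSp

namespace Groth.Agent.Lib.EtMod.ProdRes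

open H8.QCohVanish (Good covers good_X₃ surjective_of_good)

variable {S : Scheme.{u}} {X : Sp S}

instance preservesFiniteColimits_toAbEt : PreservesFiniteColimits (toAbEt X) := inferInstance

/-- Injective modules are good. -/
theorem good_of_injective_mod (I : ModEt X) [Injective I] : Good (covers X) ((toAbEt X).obj I) := by
  intro P U c _ n x hx
  haveI : Injective I.val :=
    (PresheafOfModules.sheafificationAdjunction.{u + 1} (𝟙 (OEtRing X).obj)).map_injective I inferInstance
  exact exists_eq_δ_of_injective_mod (M := I.val) x hx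

theorem shortExact_toAbEt {C : ShortComplex (ModEt X)} (hC : C.ShortExact) :
    (C.map (toAbEt X)).ShortExact :=
  hC.map_of_exact (toAbEt X)

/-- Sections of a short exact sequence with good kernel lift over affine objects. -/
theorem surjective_app_of_good {C : ShortComplex (ModEt X)} (hC : C.ShortExact)
    (h₁ : Good (covers X) ((toAbEt X).obj C.X₁)) (E : EtOver X) (hE : IsAffine E.obj.left.left) :
    Function.Surjective (C.g.val.app (op E)) :=
  surjective_of_good (shortExact_toAbEt hC) h₁ (U := E) hE

/-- Sections of the kernel of a morphism of modules. -/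
theorem exists_app_of_exact {A B D : ModEt X} (i : A ⟶ B) (p : B ⟶ D) (w : i ≫ p = 0) [Mono i]
    (h : (ShortComplex.mk i p w).Exact) (E : EtOver X) (x : B.val.obj (op E))
    (hx : p.val.app (op E) x = 0) : ∃ z, i.val.app (op E) z = x := by
  let T := (ShortComplex.mk i p w).map (toAbEt X)
  haveI : Mono T.f := inferInstanceAs (Mono ((toAbEt X).map i))
  exact Lib.ProEt.CechCrit.exists_sections_preimage (S := T) (h.map (toAbEt X)) E x hx

variable {M : ModEt X} (R : InjectiveResolution M)

/-- The cycles of an injective resolution of a good module are good. -/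
theorem exists_good_mcycles (hM : Good (covers X) ((toAbEt X).obj M)) (n : ℕ) :
    ∃ (Z : ModEt X) (ι : Z ⟶ R.cocomplex.X n) (w : ι ≫ R.cocomplex.d n (n + 1) = 0),
      Mono ι ∧ Good (covers X) ((toAbEt X).obj Z) ∧
        (ShortComplex.mk ι (R.cocomplex.d n (n + 1)) w).Exact := by
  induction n with
  | zero =>
    refine ⟨M, R.ι.f 0, R.ι_f_zero_comp_complex_d, ?_, hM, ?_⟩
    · exact mono_of_isLimit_fork R.isLimitKernelFork
    · exact ShortComplex.exact_of_f_is_kernel _ R.isLimitKernelFork
  | succ n ih =>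
    obtain ⟨Z, ι, w, hι, hZ, hex⟩ := ih
    haveI := hι
    let π := cokernel.π ι
    let d' : cokernel ι ⟶ R.cocomplex.X (n + 1) := cokernel.desc ι (R.cocomplex.d n (n + 1)) w
    have hS : (ShortComplex.mk ι π (cokernel.condition ι)).ShortExact :=
      { exact := ShortComplex.exact_of_g_is_cokernel _ (cokernelIsCokernel ι) }
    have hd : Mono d' := hex.mono_cokernelDesc
    have hw : d' ≫ R.cocomplex.d (n + 1) (n + 2) = 0 := by
      rw [← cancel_epi π]
      simp [π, d']
    refine ⟨cokernel ι, d', hw, hd,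
      good_X₃ (shortExact_toAbEt hS) hZ (good_of_injective_mod (R.cocomplex.X n)), ?_⟩
    let φ : ShortComplex.mk (R.cocomplex.d n (n + 1)) (R.cocomplex.d (n + 1) (n + 2)) (by simp) ⟶
        ShortComplex.mk d' (R.cocomplex.d (n + 1) (n + 2)) hw :=
      { τ₁ := π, τ₂ := 𝟙 _, τ₃ := 𝟙 _, comm₁₂ := by simp [π, d'] }
    haveI : Epi φ.τ₁ := (inferInstance : Epi π)
    haveI : IsIso φ.τ₂ := (inferInstance : IsIso (𝟙 _))
    haveI : Mono φ.τ₃ := (inferInstance : Mono (𝟙 _))
    exact (ShortComplex.exact_iff_of_epi_of_isIso_of_mono φ).mp (R.exact_succ n)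

/-- Sections of an injective resolution over affine objects are exact in positive degrees. -/
theorem exists_d_eq (hM : Good (covers X) ((toAbEt X).obj M)) (E : EtOver X)
    (hE : IsAffine E.obj.left.left) (n : ℕ) (x : (R.cocomplex.X (n + 1)).val.obj (op E))
    (hx : (R.cocomplex.d (n + 1) (n + 2)).val.app (op E) x = 0) :
    ∃ y, (R.cocomplex.d n (n + 1)).val.app (op E) y = x := by
  obtain ⟨Z, ι, w, hι, hZ, hex⟩ := exists_good_mcycles R hM n
  haveI := hι
  let π := cokernel.π ι
  let d' : cokernel ι ⟶ R.cocomplex.X (n + 1) := cokernel.desc ι (R.cocomplex.d n (n + 1)) w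
  have hS : (ShortComplex.mk ι π (cokernel.condition ι)).ShortExact :=
    { exact := ShortComplex.exact_of_g_is_cokernel _ (cokernelIsCokernel ι) }
  have hd : Mono d' := hex.mono_cokernelDesc
  have hw : d' ≫ R.cocomplex.d (n + 1) (n + 2) = 0 := by
    rw [← cancel_epi π]
    simp [π, d']
  let φ : ShortComplex.mk (R.cocomplex.d n (n + 1)) (R.cocomplex.d (n + 1) (n + 2)) (by simp) ⟶
      ShortComplex.mk d' (R.cocomplex.d (n + 1) (n + 2)) hw :=
    { τ₁ := π, τ₂ := 𝟙 _, τ₃ := 𝟙 _, comm₁₂ := by simp [π, d'] }
  haveI : Epi φ.τ₁ := (inferInstance : Epi π)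
  haveI : IsIso φ.τ₂ := (inferInstance : IsIso (𝟙 _))
  haveI : Mono φ.τ₃ := (inferInstance : Mono (𝟙 _))
  have hex' := (ShortComplex.exact_iff_of_epi_of_isIso_of_mono φ).mp (R.exact_succ n)
  obtain ⟨z, hz⟩ := exists_app_of_exact d' _ hw hex' E x hx
  obtain ⟨y, hy⟩ := surjective_app_of_good hS hZ E hE z
  refine ⟨y, ?_⟩
  rw [← hz, ← hy]
  exact (congrArg (fun ψ : R.cocomplex.X n ⟶ R.cocomplex.X (n + 1) => ψ.val.app (op E) y)
    (cokernel.π_desc ι (R.cocomplex.d n (n + 1)) w)).symm

section Products

variable {T : Type} {F : T → ModEt X} {Q : ModEt X} {π : ∀ t, Q ⟶ F t}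

/-- The value at an object, as a functor on modules. -/
noncomputable abbrev evM (E : EtOver X) :=
  SheafOfModules.evaluation.{u + 1} (OEtRing X) (op E)

theorem prod_hom_ext (hl : IsLimit (Fan.mk Q π)) {E : EtOver X} {a b : Q.val.obj (op E)}
    (h : ∀ t, (π t).val.app (op E) a = (π t).val.app (op E) b) : a = b :=
  Concrete.isLimit_ext _ (isLimitOfPreserves (evM E) hl) a b fun t => h t.as

theorem prod_exists (hl : IsLimit (Fan.mk Q π)) {E : EtOver X} (s : ∀ t, (F t).val.obj (op E)) :
    ∃ a : Q.val.obj (op E), ∀ t, (π t).val.app (op E) a = s t := by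
  let hl' := isLimitOfPreserves (evM E ⋙ CategoryTheory.forget _) hl
  let σ : Cone (Discrete.functor F ⋙ evM E ⋙ CategoryTheory.forget _) :=
    { pt := PUnit.{u + 2}, π := Discrete.natTrans fun t => ↾fun _ => s t.as }
  exact ⟨hl'.lift σ PUnit.unit, fun t => ConcreteCategory.congr_hom (hl'.fac σ ⟨t⟩) PUnit.unit⟩

end Products

/-- Morphisms of modules surjective over affine objects are epimorphisms. -/
theorem epi_of_surjective_affine {A B : ModEt X} (f : A ⟶ B)
    (h : ∀ E : EtOver X, IsAffine E.obj.left.left → Function.Surjective (f.val.app (op E))) : Epi f := by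
  let T := (ShortComplex.mk f (0 : B ⟶ A) comp_zero).map (toAbEt X)
  have hT : T.Exact := H8.QCohVanish.exact_of_affine_sections T fun E hE x _ => h E hE x
  haveI : Epi ((toAbEt X).map f) := hT.epi_f (by simp [T])
  exact (toAbEt X).epi_of_epi_map inferInstance

/-- A complex of modules exact on sections over affine objects is exact. -/
theorem exact_of_affine {C : ShortComplex (ModEt X)}
    (h : ∀ E : EtOver X, IsAffine E.obj.left.left → ∀ x, C.g.val.app (op E) x = 0 →
      ∃ w, C.f.val.app (op E) w = x) : C.Exact :=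
  (ShortComplex.exact_map_iff_of_faithful C (toAbEt X)).1
    (H8.QCohVanish.exact_of_affine_sections _ h)

end Groth.Agent.Lib.EtMod.ProdRes
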